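import Groth.Agent.EqSectLib.Linear
import Groth.Agent.S5014
import Groth.Agent.S0536
import Mathlib.RingTheory.Unramified.Finite
import Mathlib.RingTheory.Etale.Locus

/-!
# Equivariant sections of smooth algebras over henselian local rings
-/

set_option autoImplicit false
set_option linter.style.haveILetI false
set_option maxHeartbeats 1000000

universe u

open IsLocalRing TensorProduct

namespace EqSectLib

theorem algHom_eq_of_residue {P C A : Type u} [CommRing P] [CommRing C] [CommRing A] [IsLocalRing A]
    [Algebra P C] [Algebra P A] [Algebra.EssFiniteType P C] [Algebra.FormallyUnramified P C]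
    (s s' : C →ₐ[P] A) (h : ∀ x, residue A (s x) = residue A (s' x)) : s = s' := by
  obtain ⟨t, ht, ht1⟩ := (Algebra.FormallyUnramified.iff_exists_tensorProduct (R := P) (S := C)).1 inferInstance
  let m : C ⊗[P] C →ₐ[P] A := Algebra.TensorProduct.productMap s s'
  let M : C ⊗[P] C →+* ResidueField A := (residue A).comp m.toRingHom
  have hM : M = ((residue A).comp s.toRingHom).comp (Algebra.TensorProduct.lmul' P (S := C)).toRingHom := by
    ext x <;> simp [M, m, h]
  have hu : IsUnit (m t) := by
    rw [← isUnit_map_iff (residue A)]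
    have := RingHom.congr_fun hM t
    simp only [M, RingHom.comp_apply, AlgHom.toRingHom_eq_coe, RingHom.coe_coe, ht1, map_one] at this
    rw [this]
    exact isUnit_one
  ext x
  have := congrArg m (ht x)
  simp only [m, map_mul, map_sub, map_zero, Algebra.TensorProduct.productMap_apply_tmul, map_one, one_mul, mul_one] at this
  exact (sub_eq_zero.1 ((hu.mul_left_eq_zero).1 this)).symm

theorem exists_equivariant_section (A B : Type u) [CommRing A] [HenselianLocalRing A] [CommRing B]
    [Algebra A B] [Algebra.Smooth A B] (G : Type u) [Group G] [Finite G] [MulSemiringAction G A]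
    (hG : IsUnit ((Nat.card G : ℕ) : ResidueField A))
    (htriv : ∀ (g : G) (a : A), g • a - a ∈ maximalIdeal A)
    (τ : G → B →+* B) (hτ1 : τ 1 = RingHom.id B) (hτmul : ∀ g h : G, τ (g * h) = (τ g).comp (τ h))
    (hτA : ∀ (g : G) (a : A), τ g (algebraMap A B a) = algebraMap A B (g • a))
    (χ : B →ₐ[A] ResidueField A) (hχ : ∀ g b, χ (τ g b) = χ b) :
    ∃ s : B →ₐ[A] A, (∀ b, residue A (s b) = χ b) ∧ ∀ g b, s (τ g b) = g • s b := by
  classical
  cases nonempty_fintype G
  rw [Nat.card_eq_fintype_card, ← map_natCast (residue A), isUnit_map_iff] at hG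
  let R₀ := Fix G A
  haveI : HenselianLocalRing R₀ := henselian_fix
  have hG₀ : IsUnit ((Fintype.card G : ℕ) : R₀) := by
    rw [isUnit_fix_iff]
    simpa using hG
  have hlift := exists_fix_lift hG htriv
  have hχa : ∀ a : A, χ (algebraMap A B a) = residue A a := fun a => χ.commutes a
  let q : Ideal B := RingHom.ker χ
  haveI : q.IsPrime := RingHom.ker_isPrime χ
  have hmq : ∀ a ∈ maximalIdeal A, algebraMap A B a ∈ q := fun a ha =>
    RingHom.mem_ker.2 ((hχa a).trans ((residue_eq_zero_iff a).2 ha))
  have hsub : ∀ x : B, ∃ a : A, x - algebraMap A B a ∈ q := fun x => by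
    obtain ⟨a, ha⟩ := residue_surjective (χ x)
    exact ⟨a, by simp [q, RingHom.mem_ker, hχa, ha]⟩
  -- the ideal of functions vanishing to second order along the fibre
  let N : Ideal B := (maximalIdeal A).map (algebraMap A B) ⊔ q * q
  have hNq : N ≤ q := sup_le (Ideal.map_le_iff_le_comap.2 fun a ha => hmq a ha) Ideal.mul_le_left
  have hNτ : ∀ g, N ≤ N.comap (τ g) := fun g => by
    refine sup_le (Ideal.map_le_iff_le_comap.2 fun a ha => ?_) (Ideal.mul_le.2 fun x hx y hy => ?_)
    · refine Ideal.mem_sup_left (show τ g (algebraMap A B a) ∈ _ from ?_)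
      rw [hτA]
      have := add_mem (htriv g a) ha
      rw [sub_add_cancel] at this
      exact Ideal.mem_map_of_mem _ this
    · refine Ideal.mem_sup_right (show τ g (x * y) ∈ _ from ?_)
      rw [map_mul]
      exact Ideal.mul_mem_mul (RingHom.mem_ker.2 ((hχ g x).trans hx)) (RingHom.mem_ker.2 ((hχ g y).trans hy))
  let L := Localization.AtPrime q
  have hu : ∀ z : q.primeCompl, IsUnit (Ideal.Quotient.mk N (z : B)) := fun z => by
    obtain ⟨a, ha⟩ := hsub z
    have hau : IsUnit a := by
      by_contra hna
      have := add_mem ha (hmq a hna)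
      rw [sub_add_cancel] at this
      exact z.2 this
    have hnil : IsNilpotent (Ideal.Quotient.mk N ((z : B) - algebraMap A B a)) := ⟨2, by
      rw [← map_pow, Ideal.Quotient.eq_zero_iff_mem, pow_two]
      exact Ideal.mem_sup_right (Ideal.mul_mem_mul ha ha)⟩
    have := hnil.isUnit_add_left_of_commute ((hau.map (algebraMap A B)).map (Ideal.Quotient.mk N)) (Commute.all _ _)
    rwa [← map_add, add_sub_cancel] at this
  let ψ : L →+* B ⧸ N := IsLocalization.lift hu
  have hψ : ∀ b : B, ψ (algebraMap B L b) = Ideal.Quotient.mk N b := fun b => IsLocalization.lift_eq hu b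
  have hψa : ∀ a : A, ψ (algebraMap A L a) = algebraMap A (B ⧸ N) a := fun a => by
    rw [IsScalarTower.algebraMap_apply A B L, hψ]; rfl
  letI : Algebra L (B ⧸ N) := ψ.toAlgebra
  haveI : IsScalarTower A L (B ⧸ N) := IsScalarTower.of_algebraMap_eq fun a => (hψa a).symm
  let χ' : B ⧸ N →+* ResidueField A := Ideal.Quotient.lift N χ.toRingHom fun x hx => hNq hx
  have hχ'a : ∀ a : A, χ' (algebraMap A (B ⧸ N) a) = residue A a := fun a => hχa a
  let φ : L →+* ResidueField A := χ'.comp ψ
  have hφa : ∀ a : A, φ (algebraMap A L a) = residue A a := fun a => by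
    show χ' (ψ _) = _; rw [hψa, hχ'a]
  have hφker : ∀ z : L, z ∈ maximalIdeal L ↔ φ z = 0 := by
    have hs : Function.Surjective φ := fun k => by
      obtain ⟨a, rfl⟩ := residue_surjective k
      exact ⟨_, hφa a⟩
    intro z
    rw [← IsLocalRing.eq_maximalIdeal (RingHom.ker_isMaximal_of_surjective φ hs), RingHom.mem_ker]
  have hker2 : ∀ x y : B ⧸ N, χ' x = 0 → χ' y = 0 → x * y = 0 := by
    intro x y hx hy
    obtain ⟨x, rfl⟩ := Ideal.Quotient.mk_surjective x
    obtain ⟨y, rfl⟩ := Ideal.Quotient.mk_surjective y
    rw [← map_mul, Ideal.Quotient.eq_zero_iff_mem]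
    exact Ideal.mem_sup_right (Ideal.mul_mem_mul (RingHom.mem_ker.2 hx) (RingHom.mem_ker.2 hy))
  let lf : L → A := fun z => Function.surjInv residue_surjective (φ z)
  have hlf : ∀ z, residue A (lf z) = φ z := fun z => Function.surjInv_eq residue_surjective _
  have hsame : ∀ a b : A, residue A a = residue A b → algebraMap A (B ⧸ N) a = algebraMap A (B ⧸ N) b := by
    intro a b h
    refine Ideal.Quotient.eq.2 ?_
    rw [← map_sub]
    exact Ideal.mem_sup_left (Ideal.mem_map_of_mem _ ((residue_eq_zero_iff _).1 (by rw [map_sub, h, sub_self])))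
  let d : Derivation A L (B ⧸ N) := Derivation.mk'
    { toFun := fun z => ψ z - algebraMap A (B ⧸ N) (lf z)
      map_add' := fun x y => by
        rw [map_add, hsame (lf (x + y)) (lf x + lf y) (by simp [hlf]), map_add]; ring
      map_smul' := fun a x => by
        rw [RingHom.id_apply, Algebra.smul_def, Algebra.smul_def, map_mul, hψa,
          hsame (lf (algebraMap A L a * x)) (a * lf x) (by simp [hlf, hφa]), map_mul, mul_sub] }
    fun x y => by
      show ψ (x * y) - algebraMap A (B ⧸ N) (lf (x * y)) =
        x • (ψ y - algebraMap A (B ⧸ N) (lf y)) + y • (ψ x - algebraMap A (B ⧸ N) (lf x))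
      have h := hker2 (ψ x - algebraMap A (B ⧸ N) (lf x)) (ψ y - algebraMap A (B ⧸ N) (lf y))
        (by rw [map_sub, hχ'a, hlf]; exact sub_self _) (by rw [map_sub, hχ'a, hlf]; exact sub_self _)
      rw [Algebra.smul_def, Algebra.smul_def, RingHom.algebraMap_toAlgebra, map_mul,
        hsame (lf (x * y)) (lf x * lf y) (by simp [hlf]), map_mul]
      linear_combination (-1 : B ⧸ N) * h
  haveI : Algebra.FormallySmooth B L := Algebra.FormallySmooth.of_isLocalization q.primeCompl
  haveI : Algebra.FormallySmooth A L := Algebra.FormallySmooth.comp A B L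
  haveI : Algebra.EssFiniteType B L := Algebra.EssFiniteType.of_isLocalization L q.primeCompl
  haveI : Algebra.EssFiniteType A L := Algebra.EssFiniteType.comp A B L
  let Ω' := KaehlerDifferential A L
  let T := Ω' ⧸ (maximalIdeal L • ⊤ : Submodule L Ω')
  let Dk : B → T := fun x => Submodule.Quotient.mk (KaehlerDifferential.D A L (algebraMap B L x))
  have hdchar : ∀ x ∈ q, (Dk x = 0 ↔ x ∈ N) := by
    intro x hx
    constructor
    · intro h
      have h0 : ∀ w : Ω', w ∈ maximalIdeal L • (⊤ : Submodule L Ω') → d.liftKaehlerDifferential w = 0 := fun w hw => by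
        refine Submodule.smul_induction_on hw (fun r hr z hz0 => ?_) fun a b ha hb => by rw [map_add, ha, hb, add_zero]
        rw [map_smul, Algebra.smul_def]
        refine hker2 _ _ ((hφker r).1 hr) ?_
        have hz : z ∈ Submodule.span L (Set.range (KaehlerDifferential.D A L)) := by
          rw [KaehlerDifferential.span_range_derivation]; trivial
        clear hz0
        induction hz using Submodule.span_induction with
        | mem _ h =>
          obtain ⟨w, rfl⟩ := h
          rw [Derivation.liftKaehlerDifferential_comp_D]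
          show χ' (ψ w - algebraMap A (B ⧸ N) (lf w)) = 0
          rw [map_sub, hχ'a, hlf]
          exact sub_self _
        | zero => simp
        | add a b _ _ ha hb => rw [map_add, map_add, ha, hb, add_zero]
        | smul r a _ ha => rw [map_smul, Algebra.smul_def, map_mul, ha, mul_zero]
      have h1 := h0 _ ((Submodule.Quotient.mk_eq_zero _).1 h)
      rw [Derivation.liftKaehlerDifferential_comp_D] at h1
      change ψ (algebraMap B L x) - algebraMap A (B ⧸ N) (lf (algebraMap B L x)) = 0 at h1
      have hl : residue A (lf (algebraMap B L x)) = residue A 0 := by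
        rw [hlf, map_zero]; show χ' (ψ _) = 0; rw [hψ]; exact hx
      rw [hψ, hsame _ _ hl, map_zero, sub_zero, Ideal.Quotient.eq_zero_iff_mem] at h1
      exact h1
    · intro hxN
      have hqm : ∀ y ∈ q, algebraMap B L y ∈ maximalIdeal L := fun y hy => by
        rw [hφker]; show χ' (ψ _) = 0; rw [hψ]; exact hy
      show Submodule.Quotient.mk _ = _
      rw [Submodule.Quotient.mk_eq_zero]
      obtain ⟨y, hy, z, hz, rfl⟩ := Submodule.mem_sup.1 hxN
      rw [map_add, map_add]
      clear hxN hx
      refine add_mem ?_ ?_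
      · induction hy using Submodule.span_induction with
        | mem _ h =>
          obtain ⟨a, -, rfl⟩ := h
          rw [← IsScalarTower.algebraMap_apply, Derivation.map_algebraMap]
          exact zero_mem _
        | zero => simp
        | add a b _ _ ha hb => rw [map_add, map_add]; exact add_mem ha hb
        | smul r a ha' ha =>
          rw [smul_eq_mul, map_mul, Derivation.leibniz]
          refine add_mem (Submodule.smul_mem _ _ ha) (Submodule.smul_mem_smul (hqm a ?_) trivial)
          exact hNq (Ideal.mem_sup_left ha')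
      · refine Submodule.mul_induction_on hz (fun a ha b hb => ?_) fun a b ha hb => by
          rw [map_add, map_add]; exact add_mem ha hb
        rw [map_mul, Derivation.leibniz]
        exact add_mem (Submodule.smul_mem_smul (hqm a ha) trivial) (Submodule.smul_mem_smul (hqm b hb) trivial)
  -- a basis of the differentials made of functions vanishing at the point
  have hsp : Submodule.span L (Set.range fun x : q => KaehlerDifferential.D A L (algebraMap B L x)) = ⊤ := by
    rw [eq_top_iff, ← KaehlerDifferential.span_range_derivation, Submodule.span_le]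
    rintro _ ⟨z, rfl⟩
    obtain ⟨⟨b, s⟩, hbs⟩ := IsLocalization.surj q.primeCompl z
    have hB : ∀ x : B, KaehlerDifferential.D A L (algebraMap B L x) ∈
        Submodule.span L (Set.range fun x : q => KaehlerDifferential.D A L (algebraMap B L x)) := fun x => by
      obtain ⟨a, ha⟩ := hsub x
      refine Submodule.subset_span ⟨⟨_, ha⟩, ?_⟩
      show KaehlerDifferential.D A L (algebraMap B L (x - algebraMap A B a)) = _
      rw [map_sub, map_sub, ← IsScalarTower.algebraMap_apply, Derivation.map_algebraMap, sub_zero]
    have h := congrArg (KaehlerDifferential.D A L) hbs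
    rw [Derivation.leibniz] at h
    obtain ⟨w, hw⟩ := IsLocalization.map_units L s
    refine (Submodule.smul_mem_iff_of_isUnit _ (IsLocalization.map_units L s)).1 ?_
    rw [eq_sub_of_add_eq' h]
    exact sub_mem (hB b) (Submodule.smul_mem _ _ (hB _))
  obtain ⟨κ', av, bas, hbas⟩ := Module.exists_basis_of_span_of_flat _ hsp
  haveI : Finite κ' := Module.Finite.finite_basis bas
  cases nonempty_fintype κ'
  let n := Fintype.card κ'
  let β := bas.reindex (Fintype.equivFin κ')
  let bb : Fin n → q := fun i => av ((Fintype.equivFin κ').symm i)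
  have hβ : ∀ i, β i = KaehlerDifferential.D A L (algebraMap B L (bb i)) := fun i => by
    rw [show β i = bas ((Fintype.equivFin κ').symm i) from Module.Basis.reindex_apply _ _ _]
    exact hbas _
  -- the linear representation
  let M₀ : Submodule R₀ B := q.restrictScalars R₀
  have hτR : ∀ g (r : R₀) (x : B), τ g (r • x) = r • τ g x := fun g r x => by
    rw [Algebra.smul_def, Algebra.smul_def, map_mul, show algebraMap R₀ B r = algebraMap A B (r : A) from rfl,
      hτA, r.2 g]
  have hρmem : ∀ g, ∀ x ∈ M₀, τ g x ∈ M₀ := fun g x hx => RingHom.mem_ker.2 ((hχ g x).trans hx)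
  let ρ : G →* Module.End R₀ M₀ :=
    { toFun := fun g =>
        { toFun := fun x => ⟨τ g x, hρmem g x x.2⟩
          map_add' := fun x y => Subtype.ext (map_add _ _ _)
          map_smul' := fun r x => Subtype.ext (hτR g r x) }
      map_one' := by ext x; simp [hτ1]
      map_mul' := fun g h => by ext x; simp [hτmul] }
  have hR₀L : ∀ r : R₀, algebraMap R₀ L r = algebraMap A L (r : A) := fun r => rfl
  have hsmT : ∀ (r : R₀) (t : T), r • t = algebraMap R₀ L r • t := fun r t => (algebraMap_smul L r t).symm
  let δ : M₀ →ₗ[R₀] T :=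
    { toFun := fun x => Dk x
      map_add' := fun x y => by
        show Submodule.Quotient.mk _ = _
        rw [Submodule.coe_add, map_add, map_add, Submodule.Quotient.mk_add]
      map_smul' := fun r x => by
        show Submodule.Quotient.mk _ = _
        rw [RingHom.id_apply, hsmT, ← Submodule.Quotient.mk_smul, hR₀L, algebraMap_smul, ← Derivation.map_smul]
        congr 2
        rw [Submodule.coe_smul, Algebra.smul_def (r : R₀) (x : B), map_mul, Algebra.smul_def]
        rfl }
  have hker : ∀ g x, δ x = 0 → δ (ρ g x) = 0 := fun g x hx =>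
    (hdchar _ (hρmem g x x.2)).2 (hNτ g ((hdchar _ x.2).1 hx))
  have hres : ∀ z : L, ∃ r : R₀, z - algebraMap R₀ L r ∈ maximalIdeal L := fun z => by
    obtain ⟨r, hr⟩ := hlift (lf z)
    refine ⟨r, (hφker _).2 ?_⟩
    rw [map_sub, hR₀L, hφa, ← hlf z, ← map_sub, residue_eq_zero_iff, ← neg_sub]
    exact neg_mem hr
  have hTm : ∀ (z : L) (t : T), z ∈ maximalIdeal L → z • t = 0 := fun z t hz => by
    obtain ⟨t, rfl⟩ := Submodule.Quotient.mk_surjective _ t
    rw [← Submodule.Quotient.mk_smul, Submodule.Quotient.mk_eq_zero]
    exact Submodule.smul_mem_smul hz trivial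
  have hmk : ∀ i, δ ⟨(bb i : B), (bb i).2⟩ = Submodule.Quotient.mk (β i) := fun i => by rw [hβ]; rfl
  let bM : Fin n → M₀ := fun i => ⟨(bb i : B), (bb i).2⟩
  have hspan : ∀ x, ∃ a : Fin n → R₀, δ x = ∑ i, a i • δ (bM i) := fun x => by
    choose a ha using fun i => hres (β.repr (KaehlerDifferential.D A L (algebraMap B L (x : B))) i)
    refine ⟨a, ?_⟩
    show Submodule.Quotient.mk _ = _
    rw [← β.sum_repr (KaehlerDifferential.D A L (algebraMap B L (x : B))), ← Submodule.mkQ_apply, map_sum]
    refine Finset.sum_congr rfl fun i _ => ?_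
    rw [map_smul, hsmT, hmk, ← sub_eq_zero, Submodule.mkQ_apply, ← sub_smul]
    exact hTm _ _ (ha i)
  have hind : ∀ a : Fin n → R₀, ∑ i, a i • δ (bM i) = 0 → ∀ i, a i ∈ maximalIdeal R₀ := fun a ha i => by
    have h1 : (∑ j, algebraMap R₀ L (a j) • β j) ∈ maximalIdeal L • (⊤ : Submodule L Ω') := by
      rw [← Submodule.Quotient.mk_eq_zero, ← Submodule.mkQ_apply, map_sum, ← ha]
      exact Finset.sum_congr rfl fun j _ => by rw [map_smul, hsmT, hmk]; rfl
    have h2 := Submodule.mem_map_of_mem (f := β.coord i) h1
    rw [Submodule.map_smul''] at h2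
    have h3 : algebraMap R₀ L (a i) ∈ maximalIdeal L := by
      have : β.coord i (∑ j, algebraMap R₀ L (a j) • β j) ∈ maximalIdeal L :=
        Submodule.smul_le (I := maximalIdeal L).2 (fun r hr z _ => Ideal.mul_mem_right z _ hr) h2
      rwa [map_sum, Finset.sum_eq_single i (fun j _ hj => by simp [Finsupp.single_eq_of_ne hj.symm]) (by simp),
        map_smul, Module.Basis.coord_apply, Module.Basis.repr_self, Finsupp.single_eq_same, smul_eq_mul, mul_one] at this
    rw [mem_maximalIdeal_fix, ← residue_eq_zero_iff, ← hφa, ← hR₀L]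
    exact (hφker _).1 h3
  obtain ⟨c, hc, hcstab⟩ := exists_stable_lifts hG₀ ρ δ hker bM hspan hind
  have hcb : ∀ i, δ (c i) = δ (bM i) := fun i => by
    refine sub_eq_zero.1 (Submodule.smul_induction_on (p := fun t => t = 0) (hc i) (fun r hr t _ => ?_)
      fun a b ha hb => by rw [ha, hb, add_zero])
    rw [hsmT]
    exact hTm _ _ ((hφker _).2 (by rw [hR₀L, hφa]; exact (residue_eq_zero_iff _).2 (mem_maximalIdeal_fix.1 hr)))
  -- étaleness
  let P := MvPolynomial (Fin n) A
  let cv : Fin n → B := fun i => (c i : B)
  letI : Algebra P B := (MvPolynomial.aeval cv : P →ₐ[A] B).toRingHom.toAlgebra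
  haveI : IsScalarTower A P B := IsScalarTower.of_algebraMap_eq fun a => ((MvPolynomial.aeval cv).commutes a).symm
  have hPX : ∀ i, algebraMap P B (MvPolynomial.X i) = cv i := fun i => MvPolynomial.aeval_X _ _
  haveI : Algebra.IsEtaleAt P q := by
    rw [Groth.Agent.S5014.result A B n q]
    let v : Fin n → Ω' := fun i => KaehlerDifferential.D A L (algebraMap B L (cv i))
    have hv : Submodule.span L (Set.range v) = ⊤ := by
      rw [eq_top_iff]
      refine Submodule.le_of_le_smul_of_le_jacobson_bot Module.Finite.fg_top (maximalIdeal_le_jacobson ⊥) ?_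
      rw [← β.span_eq, Submodule.span_le]
      rintro _ ⟨i, rfl⟩
      have h := hcb i
      rw [hmk] at h
      rw [SetLike.mem_coe, Submodule.mem_sup]
      refine ⟨v i, Submodule.subset_span ⟨i, rfl⟩, β i - v i, ?_, add_sub_cancel _ _⟩
      rw [β.span_eq, ← Submodule.Quotient.eq]
      exact h.symm
    have hinj : Function.Injective (β.constr L v) := OrzechProperty.injective_of_surjective_endomorphism _
      (LinearMap.range_eq_top.1 (by rw [Module.Basis.constr_range]; exact hv))
    have hve : (fun i : Fin n => KaehlerDifferential.D A L (algebraMap B L (algebraMap P B (MvPolynomial.X i)))) = v :=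
      funext fun i => by rw [hPX]
    erw [hve]
    refine ⟨?_, hv⟩
    have := β.linearIndependent.map' _ (LinearMap.ker_eq_bot.2 hinj)
    rw [show (β.constr L v) ∘ β = v from funext fun i => β.constr_basis L v i] at this
    exact this
  haveI : Algebra.FinitePresentation P B := Algebra.FinitePresentation.of_restrict_scalars_finitePresentation A P B
  obtain ⟨h, hh, het⟩ := Algebra.exists_etale_of_isEtaleAt (R := P) q
  let Bh := Localization.Away h
  haveI := het
  letI : Algebra P A := (MvPolynomial.aeval (0 : Fin n → A) : P →ₐ[A] A).toRingHom.toAlgebra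
  have hPA : ∀ a : A, algebraMap P A (MvPolynomial.C a) = a := fun a => MvPolynomial.aeval_C _ _
  have hcomm : ∀ (f : B →+* A), (∀ a, f (algebraMap A B a) = a) → (∀ i, f (cv i) = 0) →
      f.comp (algebraMap P B) = algebraMap P A := fun f h1 h2 => by
    refine MvPolynomial.ringHom_ext (fun a => ?_) fun i => ?_
    · rw [RingHom.comp_apply, hPA, show algebraMap P B (MvPolynomial.C a) = algebraMap A B a from MvPolynomial.aeval_C _ _, h1]
    · rw [RingHom.comp_apply, hPX, h2]; exact (MvPolynomial.aeval_X (R := A) (0 : Fin n → A) i).symm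
  have hχh : IsUnit (χ.toRingHom h) := isUnit_iff_ne_zero.2 hh
  have hσP : (χ.toRingHom).comp (algebraMap P B) = (residue A).comp (algebraMap P A) := by
    refine MvPolynomial.ringHom_ext (fun a => ?_) fun i => ?_
    · rw [RingHom.comp_apply, RingHom.comp_apply, hPA, show algebraMap P B (MvPolynomial.C a) = algebraMap A B a from MvPolynomial.aeval_C _ _]
      exact hχa a
    · rw [RingHom.comp_apply, RingHom.comp_apply, hPX,
        show algebraMap P A (MvPolynomial.X i) = 0 from MvPolynomial.aeval_X _ _, map_zero]
      exact (c i).2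
  let σ : Bh →ₐ[P] A ⧸ maximalIdeal A :=
    { (IsLocalization.Away.lift h hχh : Bh →+* ResidueField A) with
      commutes' := fun p => by
        show IsLocalization.Away.lift h hχh (algebraMap P Bh p) = _
        rw [IsScalarTower.algebraMap_apply P B Bh, IsLocalization.Away.lift_eq]
        exact RingHom.congr_fun hσP p }
  obtain ⟨sh, hsh⟩ := Groth.Agent.S0536.result P Bh A (maximalIdeal A) σ
  have hsh' : ∀ z, residue A (sh z) = IsLocalization.Away.lift h hχh z := fun z => AlgHom.congr_fun hsh z
  let s₀ : B →+* A := sh.toRingHom.comp (algebraMap B Bh)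
  have hs₀P : ∀ p : P, s₀ (algebraMap P B p) = algebraMap P A p := fun p => by
    show sh (algebraMap B Bh _) = _
    rw [← IsScalarTower.algebraMap_apply, sh.commutes]
  let s : B →ₐ[A] A :=
    { s₀ with
      commutes' := fun a => by
        have := hs₀P (MvPolynomial.C a)
        rw [hPA, show algebraMap P B (MvPolynomial.C a) = algebraMap A B a from MvPolynomial.aeval_C _ _] at this
        exact this }
  have hres' : ∀ b, residue A (s b) = χ b := fun b => by
    show residue A (sh _) = _
    rw [hsh', IsLocalization.Away.lift_eq]; rfl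
  refine ⟨s, hres', fun g b => ?_⟩
  have hsc : ∀ i, s (cv i) = 0 := fun i => by
    have := hs₀P (MvPolynomial.X i)
    rwa [hPX, show algebraMap P A (MvPolynomial.X i) = 0 from MvPolynomial.aeval_X _ _] at this
  have hsspan : ∀ x : M₀, x ∈ Submodule.span R₀ (Set.range c) → s (x : B) = 0 := fun x hx => by
    induction hx using Submodule.span_induction with
    | mem _ h => obtain ⟨i, rfl⟩ := h; exact hsc i
    | zero => simp
    | add a b _ _ ha hb => rw [Submodule.coe_add, map_add, ha, hb, add_zero]
    | smul r a _ ha => rw [Submodule.coe_smul, Algebra.smul_def (r : R₀) (a : B), map_mul, ha, mul_zero]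
  let f : B →+* A := (MulSemiringAction.toRingHom G A g⁻¹).comp (s.toRingHom.comp (τ g))
  have hfa : ∀ a, f (algebraMap A B a) = a := fun a => by
    show g⁻¹ • s (τ g _) = a
    rw [hτA, AlgHom.commutes, Algebra.algebraMap_self, RingHom.id_apply, inv_smul_smul]
  have hfres : ∀ b, residue A (f b) = χ b := fun b => by
    show residue A (g⁻¹ • s (τ g b)) = _
    rw [← hχ g b, ← hres', ← sub_eq_zero, ← map_sub, residue_eq_zero_iff]
    exact htriv _ _
  have hfc : ∀ i, f (cv i) = 0 := fun i => by
    show g⁻¹ • s ((ρ g (c i) : M₀) : B) = 0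
    rw [hsspan _ (hcstab g i), smul_zero]
  have hfh : IsUnit (f h) := by rw [← isUnit_map_iff (residue A), hfres]; exact hχh
  let fh : Bh →ₐ[P] A :=
    { (IsLocalization.Away.lift h hfh : Bh →+* A) with
      commutes' := fun p => by
        show IsLocalization.Away.lift h hfh (algebraMap P Bh p) = _
        rw [IsScalarTower.algebraMap_apply P B Bh, IsLocalization.Away.lift_eq]
        exact RingHom.congr_fun (hcomm f hfa hfc) p }
  have heq : fh = sh := by
    refine algHom_eq_of_residue fh sh fun z => RingHom.congr_fun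
      (IsLocalization.ringHom_ext (R := B) (Submonoid.powers h) (j := (residue A).comp fh.toRingHom)
        (k := (residue A).comp sh.toRingHom) (RingHom.ext fun b => ?_)) z
    show residue A (IsLocalization.Away.lift h hfh (algebraMap B Bh b)) = residue A (s b)
    rw [IsLocalization.Away.lift_eq, hfres, hres']
  have hb := AlgHom.congr_fun heq (algebraMap B Bh b)
  have hb' : g⁻¹ • s (τ g b) = s b := (IsLocalization.Away.lift_eq (S := Bh) h hfh b).symm.trans hb
  rw [← hb', smul_inv_smul]

end EqSectLib
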