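import Groth.Agent.EqSectLib.Alg
import Mathlib.AlgebraicGeometry.Morphisms.Smooth
import Mathlib.AlgebraicGeometry.Morphisms.Separated

/-!
# Equivariant sections of smooth schemes over henselian local rings
-/

set_option autoImplicit false
set_option linter.style.haveILetI false
set_option maxHeartbeats 1000000

universe u

open CategoryTheory AlgebraicGeometry

namespace EqSectLib

theorem isAffineOpen_inf_of_le {X : Scheme.{u}} {U V W : X.Opens} (hU : IsAffineOpen U) (hV : IsAffineOpen V)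
    (hW : IsAffineOpen W) (hVU : V ≤ U) (hWU : W ≤ U) : IsAffineOpen (V ⊓ W) := by
  haveI : IsAffine U.toScheme := hU
  have h : ∀ {V : X.Opens}, IsAffineOpen V → V ≤ U → IsAffineOpen (U.ι ⁻¹ᵁ V) := fun hV hle =>
    hV.preimage_of_isOpenImmersion U.ι (by rwa [Scheme.Opens.opensRange_ι])
  have h2 := (((h hV hVU).inf (h hW hWU))).image_of_isOpenImmersion U.ι
  rwa [← Scheme.Hom.preimage_inf, Scheme.Hom.image_preimage_eq_opensRange_inf, Scheme.Opens.opensRange_ι,
    inf_eq_right.2 (inf_le_left.trans hVU)] at h2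

theorem mem_finset_inf {X : Scheme.{u}} {ι : Type*} (s : Finset ι) (F : ι → X.Opens) (y : X) :
    y ∈ s.inf F ↔ ∀ i ∈ s, y ∈ F i := by
  classical
  induction s using Finset.induction with
  | empty => simp
  | insert a s _ ih => rw [Finset.inf_insert, TopologicalSpace.Opens.mem_inf, ih]; simp

theorem exists_stable_affine {X : Scheme.{u}} (G : Type u) [Group G] [Finite G] (σ : G → (X ⟶ X))
    (hσ1 : σ 1 = 𝟙 X) (hσmul : ∀ g h : G, σ (g * h) = σ g ≫ σ h) (p : X) (hp : ∀ g, (σ g).base p = p) :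
    ∃ W : X.Opens, IsAffineOpen W ∧ p ∈ W ∧ ∀ g, W ≤ σ g ⁻¹ᵁ W := by
  classical
  cases nonempty_fintype G
  haveI hiso : ∀ g, IsIso (σ g) := fun g => ⟨σ g⁻¹, by rw [← hσmul, mul_inv_cancel, hσ1], by rw [← hσmul, inv_mul_cancel, hσ1]⟩
  obtain ⟨_, ⟨U, hU, rfl⟩, hpU, -⟩ := X.isBasis_affineOpens.exists_subset_of_mem_open (Set.mem_univ p) isOpen_univ
  let V : X.Opens := Finset.univ.inf fun g => σ g ⁻¹ᵁ U
  have hV : ∀ g, V ≤ σ g ⁻¹ᵁ U := fun g => Finset.inf_le (Finset.mem_univ g)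
  have hpV : p ∈ V := (mem_finset_inf _ _ p).2 fun g _ => by
    show (σ g).base p ∈ U
    rw [hp g]
    exact hpU
  obtain ⟨_, ⟨D, hD, rfl⟩, hpD, hDV⟩ := X.isBasis_affineOpens.exists_subset_of_mem_open hpV V.2
  have hDU : ∀ g, σ g ⁻¹ᵁ D ≤ U := fun g => by
    intro y hy
    have h1 : (σ g).base y ∈ σ g⁻¹ ⁻¹ᵁ U := hV g⁻¹ (hDV hy)
    change (σ g ≫ σ g⁻¹).base y ∈ U at h1
    rwa [← hσmul, mul_inv_cancel, hσ1] at h1
  have key : ∀ (s : Finset G), s.Nonempty → IsAffineOpen (s.inf fun g => σ g ⁻¹ᵁ D) ∧ (s.inf fun g => σ g ⁻¹ᵁ D) ≤ U := by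
    intro s hs
    induction hs using Finset.Nonempty.cons_induction with
    | singleton a =>
      rw [Finset.inf_singleton]
      exact ⟨hD.preimage_of_isIso (σ a), hDU a⟩
    | cons a s ha hs ih =>
      rw [Finset.inf_cons]
      exact ⟨isAffineOpen_inf_of_le hU (hD.preimage_of_isIso (σ a)) ih.1 (hDU a) ih.2, inf_le_left.trans (hDU a)⟩
  let W : X.Opens := Finset.univ.inf fun g => σ g ⁻¹ᵁ D
  have hmem : ∀ y : X, y ∈ W ↔ ∀ g, (σ g).base y ∈ D := fun y =>
    (mem_finset_inf _ _ y).trans ⟨fun h g => h g (Finset.mem_univ g), fun h g _ => h g⟩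
  refine ⟨W, (key _ Finset.univ_nonempty).1, (hmem p).2 fun g => by rw [hp g]; exact hpD, fun g y hy => ?_⟩
  refine (hmem _).2 fun h => ?_
  have := (hmem y).1 hy (g * h)
  rw [hσmul] at this
  exact this

theorem exists_section (A : Type u) [CommRing A] [HenselianLocalRing A]
    (X : Scheme.{u}) (f : X ⟶ Spec (CommRingCat.of A)) [Smooth f]
    (G : Type u) [Group G] [Finite G] [MulSemiringAction G A]
    (hG : IsUnit ((Nat.card G : ℕ) : IsLocalRing.ResidueField A))
    (htriv : ∀ (g : G) (a : A), g • a - a ∈ IsLocalRing.maximalIdeal A)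
    (σ : G → (X ⟶ X)) (hσ1 : σ 1 = 𝟙 X) (hσmul : ∀ g h : G, σ (g * h) = σ g ≫ σ h)
    (hσf : ∀ g : G, σ g ≫ f = f ≫ Spec.map (CommRingCat.ofHom (MulSemiringAction.toRingHom G A g)))
    (x : Spec (CommRingCat.of (IsLocalRing.ResidueField A)) ⟶ X)
    (hx : x ≫ f = Spec.map (CommRingCat.ofHom (IsLocalRing.residue A)))
    (hfix : ∀ g : G, x ≫ σ g = x) :
    ∃ a : Spec (CommRingCat.of A) ⟶ X, a ≫ f = 𝟙 _ ∧
      Spec.map (CommRingCat.ofHom (IsLocalRing.residue A)) ≫ a = x ∧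
      ∀ g : G, Spec.map (CommRingCat.ofHom (MulSemiringAction.toRingHom G A g)) ≫ a = a ≫ σ g := by
  let z : Spec (CommRingCat.of (IsLocalRing.ResidueField A)) := (⊥ : PrimeSpectrum (IsLocalRing.ResidueField A))
  obtain ⟨W, hW, hpW, hst⟩ := exists_stable_affine G σ hσ1 hσmul (x.base z) fun g => by
    show (x ≫ σ g).base z = _
    rw [hfix]
  haveI : IsAffine W.toScheme := hW
  let B := Γ(X, W)
  let j := hW.fromSpec
  haveI : Mono j := inferInstance
  obtain ⟨φ, hφ⟩ : ∃ φ, Spec.map φ = j ≫ f := ⟨Spec.preimage (j ≫ f), Spec.map_preimage _⟩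
  letI : Algebra A B := φ.hom.toAlgebra
  have hsm : φ.hom.Smooth := (HasRingHomProperty.Spec_iff (P := @Smooth)).1 (hφ ▸ inferInstanceAs (Smooth (j ≫ f)))
  haveI : Algebra.Smooth A B := hsm
  have hr : Set.range x.base ⊆ Set.range j.base := by
    rintro _ ⟨s, rfl⟩
    obtain rfl : s = z := Subsingleton.elim (α := PrimeSpectrum (IsLocalRing.ResidueField A)) s z
    rw [hW.range_fromSpec]
    exact hpW
  obtain ⟨χ₀, hχ₀⟩ : ∃ χ₀, Spec.map χ₀ = IsOpenImmersion.lift j x hr := ⟨Spec.preimage _, Spec.map_preimage _⟩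
  have hχj : Spec.map χ₀ ≫ j = x := by rw [hχ₀]; exact IsOpenImmersion.lift_fac _ _ _
  have hrσ : ∀ g, Set.range (j ≫ σ g).base ⊆ Set.range j.base := fun g => by
    rintro _ ⟨s, rfl⟩
    rw [hW.range_fromSpec]
    exact hst g (show j.base s ∈ W by
      have : j.base s ∈ Set.range j.base := ⟨s, rfl⟩
      rwa [hW.range_fromSpec] at this)
  choose τ₀ hτ₀ using fun g => (⟨Spec.preimage (IsOpenImmersion.lift j (j ≫ σ g) (hrσ g)), Spec.map_preimage _⟩ :
    ∃ τ, Spec.map τ = IsOpenImmersion.lift j (j ≫ σ g) (hrσ g))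
  have hτj : ∀ g, Spec.map (τ₀ g) ≫ j = j ≫ σ g := fun g => by rw [hτ₀]; exact IsOpenImmersion.lift_fac _ _ _
  have hτ1 : τ₀ 1 = 𝟙 _ := by
    apply Spec.map_injective
    rw [← cancel_mono j, hτj, hσ1, Category.comp_id, Spec.map_id, Category.id_comp]
  have hτmul : ∀ g h, τ₀ (g * h) = τ₀ h ≫ τ₀ g := fun g h => by
    apply Spec.map_injective
    rw [← cancel_mono j, hτj, Spec.map_comp, Category.assoc, hτj, ← Category.assoc (Spec.map (τ₀ g)), hτj, hσmul, Category.assoc]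
  have hτA : ∀ g, φ ≫ τ₀ g = CommRingCat.ofHom (MulSemiringAction.toRingHom G A g) ≫ φ := fun g => by
    apply Spec.map_injective
    rw [Spec.map_comp, Spec.map_comp, hφ, ← Category.assoc, hτj, Category.assoc, hσf, Category.assoc]
  have hχA : φ ≫ χ₀ = CommRingCat.ofHom (IsLocalRing.residue A) := by
    apply Spec.map_injective
    rw [Spec.map_comp, hφ, ← Category.assoc, hχj, hx]
  have hχτ : ∀ g, τ₀ g ≫ χ₀ = χ₀ := fun g => by
    apply Spec.map_injective
    rw [Spec.map_comp, ← cancel_mono j, Category.assoc, hτj, ← Category.assoc, hχj, hfix]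
  let χ : B →ₐ[A] IsLocalRing.ResidueField A :=
    { χ₀.hom with
      commutes' := fun a => congrArg (fun r => r.hom a) hχA }
  obtain ⟨s, hs, hsτ⟩ := exists_equivariant_section A B G hG htriv (fun g => (τ₀ g).hom)
    (by rw [hτ1]; rfl) (fun g h => by rw [hτmul]; rfl) (fun g a => congrArg (fun r => r.hom a) (hτA g))
    χ (fun g b => congrArg (fun r => r.hom b) (hχτ g))
  have h1 : φ ≫ CommRingCat.ofHom s.toRingHom = 𝟙 _ := by
    ext a; exact s.commutes a
  have h2 : CommRingCat.ofHom s.toRingHom ≫ CommRingCat.ofHom (IsLocalRing.residue A) = χ₀ := by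
    ext b; exact hs b
  refine ⟨Spec.map (CommRingCat.ofHom s.toRingHom) ≫ j, ?_, ?_, fun g => ?_⟩
  · rw [Category.assoc, ← hφ, ← Spec.map_comp, h1, Spec.map_id]
  · rw [← Category.assoc, ← Spec.map_comp, h2, hχj]
  · have h3 : τ₀ g ≫ CommRingCat.ofHom s.toRingHom =
        CommRingCat.ofHom s.toRingHom ≫ CommRingCat.ofHom (MulSemiringAction.toRingHom G A g) := by
      ext b; exact hsτ g b
    rw [Category.assoc, ← hτj, ← Category.assoc, ← Category.assoc, ← Spec.map_comp, ← Spec.map_comp, h3]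

end EqSectLib
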