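import Groth.Agent.HenselLib.Criteria
import Mathlib.RingTheory.Henselian
import Mathlib.LinearAlgebra.Finsupp.Pi
import Mathlib.Algebra.Ring.Action.Invariant

/-!
# Fixed subrings of henselian local rings and stable lifts of spanning families
-/

set_option autoImplicit false

universe u

open IsLocalRing

namespace EqSectLib

section Fixed

variable (G : Type u) [Group G] (A : Type u) [CommRing A] [MulSemiringAction G A]

/-- The fixed subring. -/
abbrev Fix : Subring A := FixedPoints.subring A G

variable {G A}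

theorem isUnit_fix_iff (a : Fix G A) : IsUnit a ↔ IsUnit (a : A) := by
  refine ⟨fun h => h.map (Fix G A).subtype, fun h => ?_⟩
  obtain ⟨b, hb⟩ := isUnit_iff_exists_inv.1 h
  refine isUnit_iff_exists_inv.2 ⟨⟨b, fun g => ?_⟩, Subtype.ext hb⟩
  have h1 : (a : A) * (g • b) = 1 := by
    have := congrArg (g • ·) hb
    simpa [smul_mul', a.2 g] using this
  exact h.mul_left_cancel (h1.trans hb.symm)

instance isLocalRing_fix [IsLocalRing A] : IsLocalRing (Fix G A) := by
  refine IsLocalRing.of_nonunits_add ?_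
  intro a b ha hb
  rw [mem_nonunits_iff, isUnit_fix_iff] at *
  exact (IsLocalRing.nonunits_add (a := (a : A)) (b := (b : A)) ha hb)

theorem mem_maximalIdeal_fix [IsLocalRing A] {a : Fix G A} :
    a ∈ maximalIdeal (Fix G A) ↔ (a : A) ∈ maximalIdeal A := by
  rw [mem_maximalIdeal, mem_maximalIdeal, mem_nonunits_iff, mem_nonunits_iff, isUnit_fix_iff]

theorem eq_of_isRoot {A : Type u} [CommRing A] [IsLocalRing A] (p : Polynomial A) {x y : A} (hx : p.IsRoot x) (hy : p.IsRoot y)
    (hd : IsUnit (p.derivative.eval y)) (hxy : x - y ∈ maximalIdeal A) : x = y := by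
  obtain ⟨c, hc⟩ := p.binomExpansion y (x - y)
  rw [add_sub_cancel, hx.eq_zero, hy.eq_zero] at hc
  have h0 : (x - y) * (p.derivative.eval y + c * (x - y)) = 0 := by linear_combination -hc
  have hu : IsUnit (p.derivative.eval y + c * (x - y)) := by
    by_contra h
    have h' : p.derivative.eval y + c * (x - y) ∈ maximalIdeal A := h
    exact (mem_maximalIdeal _).1 ((Submodule.add_mem_iff_left _ (Ideal.mul_mem_left _ c hxy)).1 h') hd
  exact sub_eq_zero.1 (by rwa [hu.mul_left_eq_zero] at h0)

theorem henselian_fix [HenselianLocalRing A] : HenselianLocalRing (Fix G A) where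
  is_henselian f hf a₀ h₁ h₂ := by
    let j : Fix G A →+* A := (Fix G A).subtype
    have he : ∀ (q : Polynomial (Fix G A)) (x : Fix G A), (q.map j).eval (x : A) = ((q.eval x : Fix G A) : A) :=
      fun q x => Polynomial.eval_map_apply (f := j) (p := q) x
    obtain ⟨a, ha, haa⟩ := HenselianLocalRing.is_henselian (f.map j) (hf.map j) (a₀ : A)
      (by rw [he]; exact mem_maximalIdeal_fix.1 h₁)
      (by rw [Polynomial.derivative_map, he]; exact (isUnit_fix_iff _).1 h₂)
    have hda : IsUnit ((f.map j).derivative.eval a) := by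
      obtain ⟨c, hc⟩ := (f.map j).derivative.evalSubFactor a (a₀ : A)
      by_contra h
      have h' : (f.map j).derivative.eval a ∈ maximalIdeal A := h
      have : (f.map j).derivative.eval (a₀ : A) ∈ maximalIdeal A := by
        have := sub_mem h' (Ideal.mul_mem_left (maximalIdeal A) c haa)
        rwa [← hc, sub_sub_cancel] at this
      rw [Polynomial.derivative_map, he] at this
      exact (mem_maximalIdeal _).1 this ((isUnit_fix_iff _).1 h₂)
    have hfix : ∀ g : G, g • a = a := fun g => by
      refine eq_of_isRoot _ ?_ ha hda ?_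
      · have hmap : (f.map j).map (MulSemiringAction.toRingHom G A g) = f.map j := by
          rw [Polynomial.map_map]
          exact congrArg (fun r => Polynomial.map r f) (RingHom.ext fun x => x.2 g)
        have := ha.map (f := MulSemiringAction.toRingHom G A g)
        rwa [hmap] at this
      · have h1 : g • (a - a₀) ∈ maximalIdeal A := by
          rw [mem_maximalIdeal, mem_nonunits_iff] at haa ⊢
          intro h
          have := h.map (MulSemiringAction.toRingHom G A g⁻¹)
          rw [MulSemiringAction.toRingHom_apply, inv_smul_smul] at this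
          exact haa this
        rw [smul_sub, a₀.2 g] at h1
        have := sub_mem h1 haa
        rwa [sub_sub_sub_cancel_right] at this
    refine ⟨⟨a, hfix⟩, ?_, mem_maximalIdeal_fix.2 haa⟩
    exact Subtype.ext ((he f ⟨a, hfix⟩).symm.trans ha.eq_zero)

theorem exists_fix_lift [IsLocalRing A] [Fintype G] (hG : IsUnit ((Fintype.card G : ℕ) : A))
    (htriv : ∀ (g : G) (a : A), g • a - a ∈ maximalIdeal A) (a : A) :
    ∃ r : Fix G A, (r : A) - a ∈ maximalIdeal A := by
  have hsum : ∀ h : G, h • ∑ g : G, g • a = ∑ g : G, g • a := fun h => by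
    rw [Finset.smul_sum]
    exact Fintype.sum_equiv (Equiv.mulLeft h) _ _ fun g => by simp [smul_smul]
  let w : A := ↑hG.unit⁻¹
  have hw : ((Fintype.card G : ℕ) : A) * w = 1 := IsUnit.mul_val_inv hG
  have hwf : ∀ h : G, h • w = w := fun h => by
    refine hG.mul_left_cancel (hw ▸ ?_)
    have := congrArg (h • ·) hw
    simp only [smul_mul', smul_one] at this
    rwa [show h • ((Fintype.card G : ℕ) : A) = (Fintype.card G : ℕ) from map_natCast (MulSemiringAction.toRingHom G A h) _] at this
  refine ⟨⟨w * ∑ g : G, g • a, fun h => by rw [smul_mul', hwf, hsum]⟩, ?_⟩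
  show w * ∑ g : G, g • a - a ∈ _
  have : w * ∑ g : G, g • a - a = w * ∑ g : G, (g • a - a) := by
    rw [Finset.sum_sub_distrib, mul_sub, Finset.sum_const, Finset.card_univ, nsmul_eq_mul, ← mul_assoc w _ a, mul_comm w ((Fintype.card G : ℕ) : A), hw, one_mul]
  rw [this]
  exact Ideal.mul_mem_left _ w (Ideal.sum_mem _ fun g _ => htriv g a)

end Fixed

section Stable

variable {R : Type u} [CommRing R] [HenselianLocalRing R] {G : Type u} [Group G] [Fintype G]
variable {M T : Type u} [AddCommGroup M] [Module R M] [AddCommGroup T] [Module R T]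

theorem exists_stable_lifts (hG : IsUnit ((Fintype.card G : ℕ) : R))
    (ρ : G →* Module.End R M) (δ : M →ₗ[R] T) (hker : ∀ g x, δ x = 0 → δ (ρ g x) = 0)
    {ι : Type} [Fintype ι] (b : ι → M)
    (hspan : ∀ x, ∃ a : ι → R, δ x = ∑ i, a i • δ (b i))
    (hind : ∀ a : ι → R, ∑ i, a i • δ (b i) = 0 → ∀ i, a i ∈ maximalIdeal R) :
    ∃ c : ι → M, (∀ i, δ (c i) - δ (b i) ∈ maximalIdeal R • (⊤ : Submodule R T)) ∧ ∀ g i, ρ g (c i) ∈ Submodule.span R (Set.range c) := by
  classical
  let F := ι × G → R
  let m := maximalIdeal R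
  let e0 := Pi.basisFun R (ι × G)
  let Φ : F →ₗ[R] M := e0.constr R fun p => ρ p.2 (b p.1)
  let π : F →ₗ[R] T := δ ∘ₗ Φ
  let P : G →* Module.End R F :=
    { toFun := fun g => LinearMap.funLeft R R fun p : ι × G => (p.1, g⁻¹ * p.2)
      map_one' := by ext f p; simp [LinearMap.funLeft]
      map_mul' := fun g h => by ext f p; simp [LinearMap.funLeft, mul_assoc] }
  have hP : ∀ g p, P g (e0 p) = e0 (p.1, g * p.2) := by
    intro g p
    funext q
    simp [P, e0, LinearMap.funLeft, Pi.single_apply, Prod.ext_iff, inv_mul_eq_iff_eq_mul]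
  have hΦ : ∀ g x, Φ (P g x) = ρ g (Φ x) := by
    intro g
    refine LinearMap.congr_fun (f := Φ ∘ₗ P g) (g := ρ g ∘ₗ Φ) (e0.ext fun p => ?_)
    simp only [LinearMap.comp_apply, hP, Φ, Module.Basis.constr_basis, map_mul, Module.End.mul_apply]
  have hkerP : ∀ g x, π x = 0 → π (P g x) = 0 := fun g x hx => by
    show δ (Φ (P g x)) = 0
    rw [hΦ]
    exact hker g _ hx
  choose a ha using fun p : ι × G => hspan (Φ (e0 p))
  let emb : (ι → R) →ₗ[R] F := (Pi.basisFun R ι).constr R fun i => e0 (i, 1)
  have hemb : ∀ v : ι → R, π (emb v) = ∑ i, v i • δ (b i) := fun v => by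
    simp [emb, π, Φ, Module.Basis.constr_apply_fintype]
  let L : Module.End R F := emb ∘ₗ e0.constr R a
  have hπL : ∀ x, π (L x) = π x := by
    refine LinearMap.congr_fun (f := π ∘ₗ L) (g := π) (e0.ext fun p => ?_)
    simp only [L, LinearMap.comp_apply, Module.Basis.constr_basis, hemb]
    exact (ha p).symm
  have hmem : ∀ v : ι → R, (∀ i, v i ∈ m) → emb v ∈ m • (⊤ : Submodule R F) := fun v hv => by
    simp only [emb, Module.Basis.constr_apply_fintype]
    exact sum_mem fun i _ => Submodule.smul_mem_smul (hv i) trivial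
  have hLker : ∀ x, π x = 0 → L x ∈ m • (⊤ : Submodule R F) := fun x hx =>
    hmem _ (hind _ (by rw [← hemb]; exact (hπL x).trans hx))
  let w : R := ↑hG.unit⁻¹
  let L' : Module.End R F := w • ∑ g : G, P g * L * P g⁻¹
  have hL'a : ∀ x, L' x = w • ∑ g : G, P g (L (P g⁻¹ x)) := fun x => by
    simp [L', LinearMap.sum_apply]
  have hcomm : ∀ h, Commute (P h) L' := fun h => by
    refine Commute.smul_right (show P h * _ = _ * P h from ?_) w
    rw [Finset.mul_sum, Finset.sum_mul]
    refine Fintype.sum_equiv (Equiv.mulLeft h) _ _ fun g => ?_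
    simp only [Equiv.coe_mulLeft, mul_inv_rev, map_mul, mul_assoc]
    rw [← map_mul P h⁻¹ h, inv_mul_cancel, map_one, mul_one]
  have hπL' : ∀ x, π (L' x) = π x := fun x => by
    have : ∀ g, π (P g (L (P g⁻¹ x))) = π x := fun g => by
      have h1 := hkerP g (L (P g⁻¹ x) - P g⁻¹ x) (by rw [map_sub, hπL, sub_self])
      rw [map_sub, map_sub, sub_eq_zero] at h1
      rw [h1, ← Module.End.mul_apply, ← map_mul, mul_inv_cancel, map_one, Module.End.one_apply]
    rw [hL'a, map_smul, map_sum, Finset.sum_congr rfl fun g _ => this g, Finset.sum_const, Finset.card_univ,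
      ← Nat.cast_smul_eq_nsmul R, smul_smul, IsUnit.val_inv_mul, one_smul]
  have hsm : ∀ (f : Module.End R F) (x : F), x ∈ m • (⊤ : Submodule R F) → f x ∈ m • (⊤ : Submodule R F) :=
    fun f x hx => Submodule.smul_induction_on (p := fun z => f z ∈ m • (⊤ : Submodule R F)) hx
      (fun r hr z _ => by rw [map_smul]; exact Submodule.smul_mem_smul hr trivial)
      (fun y z hy hz => by rw [map_add]; exact add_mem hy hz)
  have hL'ker : ∀ x, π x = 0 → L' x ∈ m • (⊤ : Submodule R F) := fun x hx => by
    rw [hL'a]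
    exact Submodule.smul_mem _ _ (sum_mem fun g _ => hsm _ _ (hLker _ (hkerP _ _ hx)))
  let d : Module.End R F := L' * L' - L'
  have hrange : LinearMap.range d ≤ m • (⊤ : Submodule R F) := by
    rintro _ ⟨x, rfl⟩
    show L' (L' x) - L' x ∈ _
    rw [← map_sub]
    exact hL'ker _ (by rw [map_sub, hπL', sub_self])
  obtain ⟨Q, hQ, -, hQc, hQ0⟩ :=
    LinearMap.exists_monic_and_natDegree_eq_and_coeff_mem_pow_and_aeval_eq_zero R _ _ hrange
  haveI : HenselianRing R m := inferInstance
  obtain ⟨E, hE, hq⟩ := HenselLib.exists_idem_polynomial.{u, u, u} (I := m) L' Q hQ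
    (fun i hi => Ideal.pow_le_self (by omega) (hQc i)) hQ0
  let e : Module.End R F := Polynomial.aeval L' E
  let q : Module.End R F →ₐ[R] Module.End (ResidueField R) (TensorProduct R (ResidueField R) F) :=
    Module.End.baseChangeHom R (ResidueField R) F
  have hzero : ∀ x : F, x ∈ m • (⊤ : Submodule R F) ↔ (1 : ResidueField R) ⊗ₜ[R] x = 0 := fun x => by
    rw [← Submodule.Quotient.mk_eq_zero (m • (⊤ : Submodule R F)),
      ← (TensorProduct.quotTensorEquivQuotSMul F m).symm.map_eq_zero_iff,
      TensorProduct.quotTensorEquivQuotSMul_symm_mk]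
    rfl
  have hq0 : ∀ r ∈ m, algebraMap R (Module.End (ResidueField R) (TensorProduct R (ResidueField R) F)) r = 0 :=
    fun r hr => by
      rw [IsScalarTower.algebraMap_apply R (ResidueField R), IsLocalRing.ResidueField.algebraMap_eq,
        (residue_eq_zero_iff r).2 hr, map_zero]
  have hqd : IsIdempotentElem (q L') := by
    show q L' * q L' = q L'
    rw [← map_mul q L' L', ← sub_eq_zero]
    refine (map_sub q (L' * L') L').symm.trans ?_
    refine TensorProduct.AlgebraTensorModule.ext fun c x => ?_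
    show c ⊗ₜ[R] (d x) = 0
    rw [show c ⊗ₜ[R] (d x) = c • ((1 : ResidueField R) ⊗ₜ[R] d x) from by
      rw [TensorProduct.smul_tmul', smul_eq_mul, mul_one], (hzero _).1 (hrange ⟨x, rfl⟩), smul_zero]
  have heL : ∀ x, e x - L' x ∈ m • (⊤ : Submodule R F) := fun x => by
    rw [hzero, TensorProduct.tmul_sub, sub_eq_zero]
    exact LinearMap.congr_fun (hq (B' := Module.End (ResidueField R) (TensorProduct R (ResidueField R) F)) q hq0 hqd) ((1 : ResidueField R) ⊗ₜ[R] x)
  have hπm : ∀ x, x ∈ m • (⊤ : Submodule R F) → π x ∈ m • (⊤ : Submodule R T) := fun x hx =>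
    Submodule.smul_induction_on (p := fun z => π z ∈ m • (⊤ : Submodule R T)) hx
      (fun r hr z _ => by rw [map_smul]; exact Submodule.smul_mem_smul hr trivial)
      (fun y z hy hz => by rw [map_add]; exact add_mem hy hz)
  have hecomm : ∀ h x, P h (e x) = e (P h x) := fun h x =>
    LinearMap.congr_fun (Algebra.commute_of_mem_adjoin_singleton_of_commute (Polynomial.aeval_mem_adjoin_singleton R L') (hcomm h)).eq x
  have heker : ∀ x, π x = 0 → e x ∈ m • (⊤ : Submodule R F) := fun x hx => by
    have := add_mem (heL x) (hL'ker x hx)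
    rwa [sub_add_cancel] at this
  let W := LinearMap.range e
  -- elements of `W` projecting to the basis
  let z : ι → F := fun i => e (e0 (i, 1))
  have hWle : W ≤ Submodule.span R (Set.range z) := by
    refine Submodule.le_of_le_smul_of_le_jacobson_bot (Module.Finite.fg_top.map e |> fun h => by rwa [Submodule.map_top] at h) (maximalIdeal_le_jacobson ⊥) ?_
    rintro _ ⟨x, rfl⟩
    obtain ⟨α, hα⟩ := hspan (Φ x)
    have h0 : π (x - ∑ i, α i • e0 (i, 1)) = 0 := by
      rw [map_sub, map_sum, sub_eq_zero, show π x = _ from hα]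
      refine Finset.sum_congr rfl fun i _ => ?_
      simp [π, Φ]
    have h1 : e (e (x - ∑ i, α i • e0 (i, 1))) ∈ m • W := by
      have := Submodule.mem_map_of_mem (f := e) (heker _ h0)
      rwa [Submodule.map_smul'', Submodule.map_top] at this
    rw [← Module.End.mul_apply, hE.eq, map_sub, map_sum] at h1
    rw [Submodule.mem_sup]
    exact ⟨∑ i, α i • z i, sum_mem fun i _ => Submodule.smul_mem _ _ (Submodule.subset_span ⟨i, rfl⟩),
      _, h1, by simp only [z, map_smul, e]; exact add_sub_cancel _ _⟩
  refine ⟨fun i => Φ (z i), fun i => ?_, fun g i => ?_⟩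
  · have h1 := hπm _ (heL (e0 (i, 1)))
    rw [map_sub, hπL'] at h1
    have h2 : π (e0 (i, 1)) = δ (b i) := by simp [π, Φ]
    rw [h2] at h1
    exact h1
  · have h1 : P g (z i) ∈ Submodule.span R (Set.range z) := hWle ⟨P g (e0 (i, 1)), (hecomm g _).symm⟩
    have h2 := Submodule.mem_map_of_mem (f := Φ) h1
    rw [Submodule.map_span, ← Set.range_comp, hΦ] at h2
    exact h2
end Stable

end EqSectLib
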